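import Mathlib
import Groth.Agent.GrLCLib.Basic
import Groth.Prelude.Def_GrSeg

/-!
# The graded dual over a field: finiteness exchanges with the artinian property

Chain conditions of a graded module are detected on homogeneous submodules by passing to leading
forms; the pairing turns homogeneous submodules around.
-/

set_option autoImplicit false
set_option linter.unusedSectionVars false
set_option linter.style.haveILetI false

universe u

open Groth.Agent.GrLCLib

namespace Groth.Agent.GrDual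

variable {k : Type u} [Field k] {R : Type u} [CommRing R] [Algebra k R] (𝒜 : ℤ → Submodule k R) [GradedAlgebra 𝒜]
variable {M : Type u} [AddCommGroup M] [Module R M] {τ : Type u} [SetLike τ M] [AddSubgroupClass τ M]
  (ℳ : ℤ → τ) [DirectSum.Decomposition ℳ] [SetLike.GradedSMul 𝒜 ℳ]

theorem exists_lt_pr_eq_zero (x : M) : ∃ g₀ : ℤ, ∀ g < g₀, pr ℳ g x = 0 := by
  classical
  refine ⟨-(∑ g ∈ (DirectSum.decompose ℳ x).support, |g|), fun g hg => ?_⟩
  by_contra hne
  have hmem : g ∈ (DirectSum.decompose ℳ x).support := DFinsupp.mem_support_iff.mpr fun h0 => hne (by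
    change ((DirectSum.decompose ℳ x g : ℳ g) : M) = 0
    rw [h0]; rfl)
  have h1 := Finset.single_le_sum (f := fun g : ℤ => |g|) (fun i _ => abs_nonneg i) hmem
  have h2 := neg_abs_le g
  omega

/-- The lowest forms of degree `g` of the elements of `N`. -/
def leadSet (N : Submodule R M) (g : ℤ) : Set M :=
  {y | ∃ x ∈ N, (∀ h < g, pr ℳ h x = 0) ∧ pr ℳ g x = y}

variable {ℳ}

theorem leadSet_add {N : Submodule R M} {g : ℤ} {y z : M} (hy : y ∈ leadSet ℳ N g) (hz : z ∈ leadSet ℳ N g) :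
    y + z ∈ leadSet ℳ N g := by
  obtain ⟨a, ha, ha0, rfl⟩ := hy
  obtain ⟨b, hb, hb0, rfl⟩ := hz
  exact ⟨a + b, add_mem ha hb, fun h hh => by rw [map_add, ha0 h hh, hb0 h hh, add_zero], map_add _ _ _⟩

include 𝒜 in
theorem leadSet_smul {N : Submodule R M} {e g : ℤ} {r : R} (hr : r ∈ 𝒜 e) {y : M} (hy : y ∈ leadSet ℳ N (g - e)) :
    r • y ∈ leadSet ℳ N g := by
  obtain ⟨a, ha, ha0, rfl⟩ := hy
  exact ⟨r • a, N.smul_mem r ha, fun h hh => by rw [pr_smul 𝒜 ℳ hr, ha0 _ (by omega), smul_zero],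
    by rw [pr_smul 𝒜 ℳ hr]⟩

/-- The homogeneous submodule of lowest forms. -/
def lead (ℳ : ℤ → τ) [DirectSum.Decomposition ℳ] [SetLike.GradedSMul 𝒜 ℳ] (N : Submodule R M) : Submodule R M where
  carrier := {y | ∀ g, pr ℳ g y ∈ leadSet ℳ N g}
  zero_mem' g := ⟨0, zero_mem _, fun h _ => map_zero _, by rw [map_zero]⟩
  add_mem' hx hy g := by rw [map_add]; exact leadSet_add (hx g) (hy g)
  smul_mem' r y hy g := by
    classical
    rw [← sum_pr 𝒜 r, Finset.sum_smul, map_sum]
    induction (DirectSum.decompose 𝒜 r).support using Finset.induction with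
    | empty => rw [Finset.sum_empty]; exact ⟨0, zero_mem _, fun h _ => map_zero _, map_zero _⟩
    | insert e s hes ih =>
      rw [Finset.sum_insert hes]
      refine leadSet_add ?_ ih
      rw [pr_smul 𝒜 ℳ (pr_mem 𝒜 e r)]
      exact leadSet_smul 𝒜 (pr_mem 𝒜 e r) (hy _)

theorem homog_lead (N : Submodule R M) : Homog ℳ (lead 𝒜 ℳ N) := fun y hy g h => by
  rcases eq_or_ne g h with rfl | hne
  · rw [pr_of_mem ℳ (pr_mem ℳ g y)]; exact hy g
  · rw [pr_of_mem_ne ℳ (pr_mem ℳ g y) hne]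
    exact ⟨0, zero_mem _, fun _ _ => map_zero _, map_zero _⟩

theorem lead_mono {N N' : Submodule R M} (h : N ≤ N') : lead 𝒜 ℳ N ≤ lead 𝒜 ℳ N' := fun _ hy g => by
  obtain ⟨a, ha, h1, h2⟩ := hy g
  exact ⟨a, h ha, h1, h2⟩

theorem eq_of_lead_eq (B : ℤ) (hB : ∀ g, B < g → ∀ x ∈ ℳ g, x = 0) {N N' : Submodule R M} (hle : N ≤ N')
    (h : lead 𝒜 ℳ N' ≤ lead 𝒜 ℳ N) : N = N' := by
  refine le_antisymm hle fun x hx => ?_
  suffices key : ∀ (j : ℕ) (g : ℤ), (B + 1 - g).toNat = j → ∀ x ∈ N', (∀ h < g, pr ℳ h x = 0) → x ∈ N by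
    obtain ⟨g₀, hg₀⟩ := exists_lt_pr_eq_zero ℳ x
    exact key _ g₀ rfl x hx hg₀
  intro j
  induction j with
  | zero =>
    intro g hg x _ h0
    refine mem_of_pr_mem ℳ fun l => ?_
    rcases lt_or_ge l g with hl | hl
    · rw [h0 l hl]; exact zero_mem _
    · rw [hB l (by omega) _ (pr_mem ℳ l x)]; exact zero_mem _
  | succ j ih =>
    intro g hg x hx h0
    have hmem : pr ℳ g x ∈ lead 𝒜 ℳ N' := fun l => by
      rcases eq_or_ne g l with rfl | hne
      · rw [pr_of_mem ℳ (pr_mem ℳ g x)]; exact ⟨x, hx, h0, rfl⟩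
      · rw [pr_of_mem_ne ℳ (pr_mem ℳ g x) hne]
        exact ⟨0, zero_mem _, fun _ _ => map_zero _, map_zero _⟩
    obtain ⟨z, hz, hz0, hzg⟩ := h hmem g
    rw [pr_of_mem ℳ (pr_mem ℳ g x)] at hzg
    have hsub : x - z ∈ N := ih (g + 1) (by omega) (x - z) (sub_mem hx (hle hz)) fun l hl => by
      rw [map_sub]
      rcases (Int.lt_add_one_iff.mp hl).eq_or_lt with rfl | hl'
      · rw [hzg, sub_self]
      · rw [h0 l hl', hz0 l hl', sub_self]
    simpa using add_mem hsub hz

include 𝒜 in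
/-- A graded module bounded above whose homogeneous submodules satisfy the descending chain condition is
artinian. -/
theorem isArtinian_of_homog (B : ℤ) (hB : ∀ g, B < g → ∀ x ∈ ℳ g, x = 0)
    [WellFoundedLT {K : Submodule R M // Homog ℳ K}] : IsArtinian R M :=
  StrictMono.wellFoundedLT (f := fun N : Submodule R M => (⟨lead 𝒜 ℳ N, homog_lead 𝒜 N⟩ : {K : Submodule R M // Homog ℳ K}))
    fun N N' hlt => lt_of_le_of_ne (lead_mono 𝒜 hlt.le) fun he =>
      hlt.ne (eq_of_lead_eq 𝒜 B hB hlt.le (congrArg Subtype.val he).ge)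

theorem homog_span {s : Set M} (hs : ∀ y ∈ s, ∃ g, y ∈ ℳ g) (h𝒜 : DirectSum.Decomposition 𝒜) :
    Homog ℳ (Submodule.span R s) := by
  intro x hx
  induction hx using Submodule.span_induction with
  | mem y hy =>
    obtain ⟨g, hg⟩ := hs y hy
    intro l
    rcases eq_or_ne g l with rfl | hne
    · rw [pr_of_mem ℳ hg]; exact Submodule.subset_span hy
    · rw [pr_of_mem_ne ℳ hg hne]; exact zero_mem _
  | zero => intro l; rw [map_zero]; exact zero_mem _
  | add x y _ _ hx hy => intro l; rw [map_add]; exact add_mem (hx l) (hy l)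
  | smul r x _ hx =>
    intro l
    classical
    rw [← sum_pr 𝒜 r, Finset.sum_smul, map_sum]
    exact sum_mem fun e _ => by rw [pr_smul 𝒜 ℳ (pr_mem 𝒜 e r)]; exact Submodule.smul_mem _ _ (hx _)

include 𝒜 in
/-- A graded module whose homogeneous submodules satisfy the ascending chain condition is finite. -/
theorem finite_of_homog [WellFoundedGT {K : Submodule R M // Homog ℳ K}] : Module.Finite R M := by
  classical
  let T := {t : Finset M // ∀ y ∈ t, ∃ g, y ∈ ℳ g}
  let F : T → {K : Submodule R M // Homog ℳ K} := fun t =>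
    ⟨Submodule.span R (t.1 : Set M), homog_span 𝒜 (fun y hy => t.2 y hy) inferInstance⟩
  obtain ⟨K, ⟨t, rfl⟩, hmax⟩ := wellFounded_gt.has_min (Set.range F) ⟨_, ⟨∅, by simp⟩, rfl⟩
  refine ⟨⟨t.1, eq_top_iff.mpr fun x _ => mem_of_pr_mem ℳ fun g => ?_⟩⟩
  let t' : T := ⟨insert (pr ℳ g x) t.1, fun y hy => by
    rcases Finset.mem_insert.mp hy with rfl | hy
    · exact ⟨g, pr_mem ℳ g x⟩
    · exact t.2 y hy⟩
  by_contra hne
  refine hmax (F t') ⟨t', rfl⟩ (show F t < F t' from lt_of_le_of_ne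
    (Submodule.span_mono (by simp [t'])) fun he => hne ?_)
  have h2 : Submodule.span R (t.1 : Set M) = Submodule.span R (t'.1 : Set M) := congrArg Subtype.val he
  rw [h2]
  exact Submodule.subset_span (by simp [t'])

section Pieces

variable [Module k M] [IsScalarTower k R M]

include 𝒜 in
theorem k_smul_mem {g : ℤ} (c : k) {x : M} (hx : x ∈ ℳ g) : c • x ∈ ℳ g := by
  have h0 : algebraMap k R c ∈ 𝒜 0 := by
    rw [Algebra.algebraMap_eq_smul_one]
    exact (𝒜 0).smul_mem c (SetLike.one_mem_graded 𝒜)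
  have := smul_mem 𝒜 ℳ h0 hx
  rwa [zero_add, algebraMap_smul] at this

variable (ℳ) in
/-- The degree `g` piece as a vector space. -/
def piece (g : ℤ) : Submodule k M where
  carrier := ℳ g
  zero_mem' := zero_mem (ℳ g)
  add_mem' := fun hx hy => add_mem hx hy
  smul_mem' c _ hx := k_smul_mem 𝒜 c hx

include 𝒜 in
theorem pr_k_smul (g : ℤ) (c : k) (x : M) : pr ℳ g (c • x) = c • pr ℳ g x := by
  have h0 : algebraMap k R c ∈ 𝒜 0 := by
    rw [Algebra.algebraMap_eq_smul_one]
    exact (𝒜 0).smul_mem c (SetLike.one_mem_graded 𝒜)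
  rw [← algebraMap_smul R c x, pr_smul 𝒜 ℳ h0, sub_zero, algebraMap_smul]

variable (ℳ) in
/-- The projection to a piece as a linear map. -/
noncomputable def prL (g : ℤ) : M →ₗ[k] M :=
  { toFun := pr ℳ g, map_add' := map_add _, map_smul' := pr_k_smul 𝒜 g }

include 𝒜 in
theorem span_inf_piece (h0R : 𝒜 0 = Submodule.span k {(1 : R)}) (g : ℤ) (V : Submodule k M) (hV : ∀ x ∈ V, x ∈ ℳ g)
    {y : M} (hy : y ∈ Submodule.span R (V : Set M)) : pr ℳ g y ∈ V := by
  obtain ⟨m, r, v, rfl⟩ := Submodule.mem_span_set'.mp hy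
  rw [map_sum]
  refine sum_mem fun i _ => ?_
  classical
  rw [← sum_pr 𝒜 (r i), Finset.sum_smul, map_sum]
  refine sum_mem fun e _ => ?_
  rw [pr_smul 𝒜 ℳ (pr_mem 𝒜 e (r i))]
  rcases eq_or_ne e 0 with rfl | he
  · obtain ⟨c, hc⟩ := Submodule.mem_span_singleton.mp (h0R.le (pr_mem 𝒜 0 (r i)))
    rw [sub_zero, pr_of_mem ℳ (hV _ (v i).2), ← hc, smul_assoc, one_smul]
    exact V.smul_mem c (v i).2
  · rw [pr_of_mem_ne ℳ (hV _ (v i).2) (by omega), smul_zero]
    exact zero_mem _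

end Pieces

end Groth.Agent.GrDual
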