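import Mathlib
import Groth.Agent.GrDual.Basic

/-!
# The pairing of a graded module with its graded dual
-/

set_option autoImplicit false
set_option linter.unusedSectionVars false
set_option linter.style.haveILetI false

universe u

open Groth.Agent.GrLCLib

namespace Groth.Agent.GrDual

variable {k : Type u} [Field k] {R : Type u} [CommRing R] [Algebra k R] (𝒜 : ℤ → Submodule k R) [GradedAlgebra 𝒜]
variable {M : Type u} [AddCommGroup M] [Module R M] [Module k M] [IsScalarTower k R M] {τ : Type u} [SetLike τ M]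
  [AddSubgroupClass τ M] {ℳ : ℤ → τ} [DirectSum.Decomposition ℳ] [SetLike.GradedSMul 𝒜 ℳ]
variable {D : Type u} [AddCommGroup D] [Module R D] [Module k D] [IsScalarTower k R D] {τ' : Type u} [SetLike τ' D]
  [AddSubgroupClass τ' D] {𝒟 : ℤ → τ'} [DirectSum.Decomposition 𝒟] [SetLike.GradedSMul 𝒜 𝒟]
variable {β : D →ₗ[k] M →ₗ[k] k} (hD : GrSeg.IsGDual R ℳ 𝒟 β)
include 𝒜 hD

theorem pairing_right {m : ℤ} {x : M} (hx : x ∈ ℳ m) (d : D) : β d x = β (pr 𝒟 (-m) d) x := by
  classical
  conv_lhs => rw [← sum_pr 𝒟 d, map_sum, LinearMap.sum_apply]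
  refine Finset.sum_eq_single (-m) (fun n _ hn => hD.vanish n _ (pr_mem 𝒟 n d) m (by omega) x hx) fun h => ?_
  have h0 : pr 𝒟 (-m) d = 0 := by
    change ((DirectSum.decompose 𝒟 d (-m) : 𝒟 (-m)) : D) = 0
    rw [DFinsupp.notMem_support_iff.mp h]; rfl
  rw [h0, map_zero, LinearMap.zero_apply]

theorem pairing_left {n : ℤ} {d : D} (hd : d ∈ 𝒟 n) (x : M) : β d x = β d (pr ℳ (-n) x) := by
  classical
  conv_lhs => rw [← sum_pr ℳ x, map_sum]
  refine Finset.sum_eq_single (-n) (fun m _ hm => hD.vanish n d hd m hm _ (pr_mem ℳ m x)) fun h => ?_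
  have h0 : pr ℳ (-n) x = 0 := by
    change ((DirectSum.decompose ℳ x (-n) : ℳ (-n)) : M) = 0
    rw [DFinsupp.notMem_support_iff.mp h]; rfl
  rw [h0, map_zero]

theorem injective_pairing : Function.Injective β := by
  rw [injective_iff_map_eq_zero]
  intro d hd
  have : ∀ n, pr 𝒟 n d = 0 := fun n => hD.eq_zero n _ (pr_mem 𝒟 n d) fun x hx => by
    have := pairing_right 𝒜 hD hx d
    rw [neg_neg, hd] at this
    exact this.symm
  exact (sum_pr 𝒟 d).symm.trans (Finset.sum_eq_zero fun n _ => this n)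

/-- The annihilator of a submodule in the dual. -/
def orth (K : Submodule R M) : Submodule R D where
  carrier := {d | ∀ x ∈ K, β d x = 0}
  zero_mem' x _ := by simp
  add_mem' hd he x hx := by rw [map_add, LinearMap.add_apply, hd x hx, he x hx, add_zero]
  smul_mem' r d hd x hx := by rw [hD.map_smul]; exact hd _ (K.smul_mem r hx)

theorem homog_orth {K : Submodule R M} (hK : Homog ℳ K) : Homog 𝒟 (orth hD K) := fun d hd n x hx => by
  have h1 := hd _ (hK x hx (-n))
  rw [pairing_right 𝒜 hD (pr_mem ℳ (-n) x) d, neg_neg] at h1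
  rw [pairing_left 𝒜 hD (pr_mem 𝒟 n d) x]
  exact h1

theorem orth_anti {K K' : Submodule R M} (h : K ≤ K') : orth hD K' ≤ orth hD K := fun _ hd x hx => hd x (h hx)

theorem le_of_orth_le {K K' : Submodule R M} (hK : Homog ℳ K) (hK' : Homog ℳ K')
    (h : orth hD K ≤ orth hD K') : K' ≤ K := by
  intro x hx
  refine mem_of_pr_mem ℳ fun m => ?_
  by_contra hne
  let V : Submodule k M := K.restrictScalars k
  obtain ⟨g, hgx, hgV⟩ := Submodule.exists_dual_map_eq_bot_of_notMem (p := V) hne inferInstance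
  obtain ⟨d, hd, hdg⟩ := hD.exists_eq (-m) g
  rw [neg_neg] at hdg
  have hdK : d ∈ orth hD K := fun y hy => by
    rw [pairing_left 𝒜 hD hd y, neg_neg, hdg _ (pr_mem ℳ m y)]
    have hmem : g (pr ℳ m y) ∈ V.map g := ⟨_, hK y hy m, rfl⟩
    rwa [hgV, Submodule.mem_bot] at hmem
  exact hgx ((hdg _ (pr_mem ℳ m x)).symm.trans (h hdK _ (hK' x hx m)))

theorem strictAnti_orth : StrictAnti (fun K : {K : Submodule R M // Homog ℳ K} =>
    (⟨orth hD K.1, homog_orth 𝒜 hD K.2⟩ : {L : Submodule R D // Homog 𝒟 L})) := fun K K' hlt =>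
  lt_of_le_of_ne (orth_anti 𝒜 hD hlt.le) fun he =>
    hlt.ne (le_antisymm hlt.le (le_of_orth_le 𝒜 hD K.2 K'.2 (congrArg Subtype.val he).ge))

theorem isGDual_flip [hfin : ∀ g, Module.Finite k (piece 𝒜 ℳ g)] : GrSeg.IsGDual R 𝒟 ℳ β.flip where
  map_smul r x d := by simp only [LinearMap.flip_apply]; exact (hD.map_smul r d x).symm
  vanish n x hx m hm d hd := hD.vanish m d hd n (by omega) x hx
  eq_zero n x hx h := by
    by_contra hne
    obtain ⟨g, hgx, -⟩ := Submodule.exists_dual_map_eq_bot_of_notMem (p := (⊥ : Submodule k M))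
      (show x ∉ (⊥ : Submodule k M) by rwa [Submodule.mem_bot]) inferInstance
    obtain ⟨d, hd, hdg⟩ := hD.exists_eq (-n) g
    rw [neg_neg] at hdg
    exact hgx ((hdg x hx).symm.trans (h d hd))
  exists_eq n g := by
    classical
    let P := piece 𝒜 ℳ n
    haveI : Module.Finite k P := hfin n
    let e : piece 𝒜 𝒟 (-n) →ₗ[k] Module.Dual k P :=
      { toFun := fun d => (β (d : D)).comp P.subtype
        map_add' := fun a b => by ext y; simp
        map_smul' := fun c a => by ext y; simp }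
    have he : Function.Bijective e := by
      refine ⟨(injective_iff_map_eq_zero e).mpr fun d hd => Subtype.ext (hD.eq_zero (-n) d d.2 fun x hx => ?_), fun φ => ?_⟩
      · rw [neg_neg] at hx
        exact LinearMap.congr_fun hd (⟨x, hx⟩ : P)
      · obtain ⟨G, hG⟩ := LinearMap.exists_extend φ
        obtain ⟨d, hd, hdG⟩ := hD.exists_eq (-n) G
        refine ⟨⟨d, hd⟩, LinearMap.ext fun y => ?_⟩
        rw [neg_neg] at hdG
        exact (hdG y y.2).trans (LinearMap.congr_fun hG y)
    let ee := LinearEquiv.ofBijective e he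
    obtain ⟨x, hx⟩ := (Module.evalEquiv k P).surjective ((g.comp (piece 𝒜 𝒟 (-n)).subtype).comp ee.symm.toLinearMap)
    refine ⟨(x : M), x.2, fun d hd => ?_⟩
    have h1 := LinearMap.congr_fun hx (ee ⟨d, hd⟩)
    rw [LinearMap.comp_apply, LinearEquiv.coe_coe, ee.symm_apply_apply] at h1
    exact h1

end Groth.Agent.GrDual
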