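import Mathlib
import Groth.Agent.GrDual.Pairing

/-!
# Finite graded modules and artinian graded modules are exchanged by the graded dual
-/

set_option autoImplicit false
set_option linter.unusedSectionVars false
set_option linter.style.haveILetI false

universe u

open Groth.Agent.GrLCLib

namespace Groth.Agent.GrDual

variable {k : Type u} [Field k] {R : Type u} [CommRing R] [Algebra k R] (𝒜 : ℤ → Submodule k R) [GradedAlgebra 𝒜]
variable {M : Type u} [AddCommGroup M] [Module R M] [Module k M] [IsScalarTower k R M] {τ : Type u} [SetLike τ M]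
  [AddSubgroupClass τ M] {ℳ : ℤ → τ} [DirectSum.Decomposition ℳ] [SetLike.GradedSMul 𝒜 ℳ]
variable {D : Type u} [AddCommGroup D] [Module R D] [Module k D] [IsScalarTower k R D] {τ' : Type u} [SetLike τ' D]
  [AddSubgroupClass τ' D] {𝒟 : ℤ → τ'} [DirectSum.Decomposition 𝒟] [SetLike.GradedSMul 𝒜 𝒟]

theorem spanMap_injective (h0R : 𝒜 0 = Submodule.span k {(1 : R)}) (g : ℤ) :
    Function.Injective fun V : Submodule k (piece 𝒜 ℳ g) =>
      Submodule.span R ((V.map (piece 𝒜 ℳ g).subtype : Submodule k M) : Set M) := by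
  intro V W h
  have key : ∀ (V W : Submodule k (piece 𝒜 ℳ g)),
      Submodule.span R ((V.map (piece 𝒜 ℳ g).subtype : Submodule k M) : Set M) =
      Submodule.span R ((W.map (piece 𝒜 ℳ g).subtype : Submodule k M) : Set M) → V ≤ W := by
    intro V W h x hx
    have h1 : (x : M) ∈ Submodule.span R ((W.map (piece 𝒜 ℳ g).subtype : Submodule k M) : Set M) :=
      h ▸ Submodule.subset_span ⟨x, hx, rfl⟩
    have h2 := span_inf_piece (ℳ := ℳ) 𝒜 h0R g (W.map (piece 𝒜 ℳ g).subtype) (by rintro _ ⟨y, -, rfl⟩; exact y.2) h1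
    have hxm : (x : M) ∈ ℳ g := x.2
    rw [pr_of_mem ℳ hxm] at h2
    obtain ⟨y, hy, hxy⟩ := h2
    rwa [← Subtype.ext hxy]
  exact le_antisymm (key V W h) (key W V h.symm)

theorem spanMap_strictMono (h0R : 𝒜 0 = Submodule.span k {(1 : R)}) (g : ℤ) :
    StrictMono fun V : Submodule k (piece 𝒜 ℳ g) =>
      Submodule.span R ((V.map (piece 𝒜 ℳ g).subtype : Submodule k M) : Set M) :=
  fun _ _ hlt => lt_of_le_of_ne (Submodule.span_mono (Submodule.map_mono hlt.le))
    fun he => hlt.ne (spanMap_injective 𝒜 h0R g he)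

include 𝒜 in
theorem finite_piece (h0R : 𝒜 0 = Submodule.span k {(1 : R)}) (h : IsNoetherian R M ∨ IsArtinian R M) (g : ℤ) :
    Module.Finite k (piece 𝒜 ℳ g) := by
  rcases h with h | h
  · haveI : IsNoetherian k (piece 𝒜 ℳ g) := isNoetherian_iff'.mpr (spanMap_strictMono 𝒜 h0R g).wellFoundedGT
    infer_instance
  · haveI : IsArtinian k (piece 𝒜 ℳ g) := (spanMap_strictMono 𝒜 h0R g).wellFoundedLT
    exact ((IsSemisimpleModule.finite_tfae (R := k) (M := piece 𝒜 ℳ g)).out 0 2).mpr (show IsArtinian k (piece 𝒜 ℳ g) by infer_instance)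

include 𝒜 in
theorem exists_lower_bound (hposR : ∀ n : ℤ, n < 0 → 𝒜 n = ⊥) [Module.Finite R M] :
    ∃ B : ℤ, ∀ g < B, ∀ x ∈ ℳ g, x = 0 := by
  classical
  obtain ⟨s, hs⟩ := Module.Finite.fg_top (R := R) (M := M)
  choose b hb using fun y : M => exists_lt_pr_eq_zero ℳ y
  refine ⟨-(∑ y ∈ s, |b y|), fun g hg x hx => ?_⟩
  have hmem : x ∈ Submodule.span R (s : Set M) := hs ▸ Submodule.mem_top
  obtain ⟨m, r, v, rfl⟩ := Submodule.mem_span_set'.mp hmem
  rw [← pr_of_mem ℳ hx, map_sum]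
  refine Finset.sum_eq_zero fun i _ => ?_
  rw [← sum_pr 𝒜 (r i), Finset.sum_smul, map_sum]
  refine Finset.sum_eq_zero fun e _ => ?_
  rw [pr_smul 𝒜 ℳ (pr_mem 𝒜 e (r i))]
  rcases lt_or_ge e 0 with he | he
  · have : pr 𝒜 e (r i) ∈ (⊥ : Submodule k R) := hposR e he ▸ pr_mem 𝒜 e (r i)
    rw [Submodule.mem_bot] at this
    rw [this, zero_smul]
  · have h1 := Finset.single_le_sum (f := fun y => |b y|) (fun y _ => abs_nonneg _) (v i).2
    have h2 := neg_abs_le (b (v i))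
    rw [hb _ (g - e) (by omega), smul_zero]

variable {β : D →ₗ[k] M →ₗ[k] k}

include 𝒜 in
theorem isArtinian_dual (hposR : ∀ n : ℤ, n < 0 → 𝒜 n = ⊥) (h0R : 𝒜 0 = Submodule.span k {(1 : R)})
    [IsNoetherianRing R] (hD : GrSeg.IsGDual R ℳ 𝒟 β) [Module.Finite R M] :
    IsArtinian R D ∧ GrSeg.IsGDual R 𝒟 ℳ β.flip := by
  haveI : IsNoetherian R M := isNoetherian_of_isNoetherianRing_of_finite R M
  have hflip : GrSeg.IsGDual R 𝒟 ℳ β.flip :=
    isGDual_flip 𝒜 hD (hfin := fun g => finite_piece 𝒜 h0R (Or.inl inferInstance) g)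
  haveI : WellFoundedLT {L : Submodule R D // Homog 𝒟 L} := by
    have := StrictMono.wellFoundedLT (β := {K : Submodule R M // Homog ℳ K}ᵒᵈ)
      (f := fun L : {L : Submodule R D // Homog 𝒟 L} => OrderDual.toDual
        (⟨orth hflip L.1, homog_orth 𝒜 hflip L.2⟩ : {K : Submodule R M // Homog ℳ K})) fun L L' hlt => strictAnti_orth 𝒜 hflip hlt
    exact this
  obtain ⟨B, hB⟩ := exists_lower_bound 𝒜 (ℳ := ℳ) hposR
  refine ⟨isArtinian_of_homog 𝒜 (-B) fun g hg d hd => hD.eq_zero g d hd fun x hx => ?_, hflip⟩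
  rw [hB (-g) (by omega) x hx, map_zero]

include 𝒜 in
theorem finite_dual (h0R : 𝒜 0 = Submodule.span k {(1 : R)}) (hD : GrSeg.IsGDual R ℳ 𝒟 β) [IsArtinian R M] :
    Module.Finite R D ∧ GrSeg.IsGDual R 𝒟 ℳ β.flip := by
  have hflip : GrSeg.IsGDual R 𝒟 ℳ β.flip :=
    isGDual_flip 𝒜 hD (hfin := fun g => finite_piece 𝒜 h0R (Or.inr inferInstance) g)
  haveI : WellFoundedLT {K : Submodule R M // Homog ℳ K} :=
    StrictMono.wellFoundedLT (f := fun K : {K : Submodule R M // Homog ℳ K} => K.1) fun _ _ h => h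
  haveI : WellFoundedGT {L : Submodule R D // Homog 𝒟 L} := by
    have := StrictMono.wellFoundedGT (β := {K : Submodule R M // Homog ℳ K}ᵒᵈ)
      (f := fun L : {L : Submodule R D // Homog 𝒟 L} => OrderDual.toDual
        (⟨orth hflip L.1, homog_orth 𝒜 hflip L.2⟩ : {K : Submodule R M // Homog ℳ K})) fun L L' hlt => strictAnti_orth 𝒜 hflip hlt
    exact this
  exact ⟨finite_of_homog 𝒜 (ℳ := 𝒟), hflip⟩

end Groth.Agent.GrDual
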