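import Mathlib
import Groth.Agent.GrDual.Main

/-!
# Artinian graded modules embed in sums of shifted copies of the dual of the ring
-/

set_option autoImplicit false
set_option linter.unusedSectionVars false
set_option linter.style.haveILetI false

universe u

open Groth.Agent.GrLCLib

namespace Groth.Agent.GrDual

variable {k : Type u} [Field k] {R : Type u} [CommRing R] [Algebra k R] (𝒜 : ℤ → Submodule k R) [GradedAlgebra 𝒜]
variable {D : Type u} [AddCommGroup D] [Module R D] [Module k D] [IsScalarTower k R D] {τ' : Type u} [SetLike τ' D]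
  [AddSubgroupClass τ' D] {𝒟 : ℤ → τ'} [DirectSum.Decomposition 𝒟] [SetLike.GradedSMul 𝒜 𝒟]
variable {β : D →ₗ[k] R →ₗ[k] k}
variable {M : Type u} [AddCommGroup M] [Module R M] [Module k M] [IsScalarTower k R M] {τ : Type u} [SetLike τ M]
  [AddSubgroupClass τ M] {ℳ : ℤ → τ} [DirectSum.Decomposition ℳ] [SetLike.GradedSMul 𝒜 ℳ]

/-- A functional on a piece of `M` gives a graded map to the shifted dual of the ring. -/
theorem exists_map (hD : GrSeg.IsGDual R 𝒜 𝒟 β) (a : ℤ) (φ : M →ₗ[k] k) :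
    ∃ F : M →ₗ[R] D, (∀ x r, β (F x) r = φ (pr ℳ a (r • x))) ∧ ∀ g, ∀ x ∈ ℳ g, F x ∈ 𝒟 (g + -a) := by
  classical
  let Φ : M → R →ₗ[k] k := fun x =>
    { toFun := fun r => φ (pr ℳ a (r • x))
      map_add' := fun r s => by rw [add_smul, map_add, map_add]
      map_smul' := fun c r => by rw [smul_assoc, pr_k_smul 𝒜 (ℳ := ℳ) a c, map_smul, RingHom.id_apply] }
  have hΦadd : ∀ x y, Φ (x + y) = Φ x + Φ y := fun x y => LinearMap.ext fun r => by
    change φ (pr ℳ a (r • (x + y))) = φ (pr ℳ a (r • x)) + φ (pr ℳ a (r • y))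
    rw [smul_add, map_add, map_add]
  have hhom : ∀ g, ∀ x ∈ ℳ g, ∃ d ∈ 𝒟 (g + -a), β d = Φ x := by
    intro g x hx
    obtain ⟨d, hd, hdΦ⟩ := hD.exists_eq (g + -a) (Φ x)
    refine ⟨d, hd, LinearMap.ext fun r => ?_⟩
    rw [pairing_left 𝒜 hD hd r, hdΦ _ (pr_mem 𝒜 _ r)]
    change φ (pr ℳ a (pr 𝒜 (-(g + -a)) r • x)) = φ (pr ℳ a (r • x))
    congr 1
    conv_rhs => rw [← sum_pr 𝒜 r, Finset.sum_smul, map_sum]
    symm
    refine Finset.sum_eq_single (-(g + -a)) (fun e _ he => ?_) fun h => ?_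
    · exact pr_of_mem_ne ℳ (smul_mem 𝒜 ℳ (pr_mem 𝒜 e r) hx) (by omega)
    · have h0 : pr 𝒜 (-(g + -a)) r = 0 := by
        change ((DirectSum.decompose 𝒜 r (-(g + -a)) : 𝒜 (-(g + -a))) : R) = 0
        rw [DFinsupp.notMem_support_iff.mp h]; rfl
      rw [h0, zero_smul, map_zero]
  have hex : ∀ x, ∃ d, β d = Φ x := by
    intro x
    induction x using DirectSum.Decomposition.inductionOn ℳ with
    | zero => exact ⟨0, LinearMap.ext fun r => by
        change β 0 r = φ (pr ℳ a (r • (0 : M)))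
        simp⟩
    | @homogeneous j m => obtain ⟨d, -, hd⟩ := hhom j m m.2; exact ⟨d, hd⟩
    | add x y hx hy =>
      obtain ⟨d, hd⟩ := hx
      obtain ⟨e, he⟩ := hy
      exact ⟨d + e, by rw [map_add, hd, he, hΦadd]⟩
  choose F hF using hex
  have hinj := injective_pairing 𝒜 hD
  refine ⟨{ toFun := F, map_add' := fun x y => hinj (by rw [map_add, hF, hF, hF, hΦadd]),
            map_smul' := fun r x => hinj (LinearMap.ext fun s => by
              rw [RingHom.id_apply, hD.map_smul, hF, hF]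
              change φ (pr ℳ a (s • r • x)) = φ (pr ℳ a ((r • s) • x))
              rw [smul_eq_mul, mul_comm r s, mul_smul]) }, fun x r => LinearMap.congr_fun (hF x) r, fun g x hx => ?_⟩
  obtain ⟨d, hd, hdΦ⟩ := hhom g x hx
  change F x ∈ _
  rwa [hinj ((hF x).trans hdΦ.symm)]

include 𝒜 in
theorem exists_embedding (hD : GrSeg.IsGDual R 𝒜 𝒟 β) [IsArtinian R M] :
    ∃ (t : ℕ) (sh : Fin t → ℤ) (f : M →ₗ[R] (Fin t → D)), Function.Injective f ∧
      ∀ (i : Fin t) (g : ℤ) (x : M), x ∈ ℳ g → f x i ∈ 𝒟 (g + sh i) := by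
  classical
  let ι := ℤ × (M →ₗ[k] k)
  choose F hF hFdeg using fun i : ι => exists_map 𝒜 (ℳ := ℳ) hD i.1 i.2
  let K : Finset ι → Submodule R M := fun s => s.inf fun i => LinearMap.ker (F i)
  obtain ⟨_, ⟨s, rfl⟩, hmin⟩ := IsArtinian.set_has_minimal (Set.range K) ⟨_, ∅, rfl⟩
  let t := Fintype.card s
  let e : Fin t ≃ s := (Fintype.equivFin s).symm
  refine ⟨t, fun i => -(e i : ι).1, LinearMap.pi fun i => F (e i), ?_, fun i g x hx => hFdeg _ g x hx⟩
  rw [injective_iff_map_eq_zero]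
  intro x hx
  by_contra hne
  obtain ⟨a, ha⟩ : ∃ a, pr ℳ a x ≠ 0 := by
    by_contra hc
    push Not at hc
    exact hne ((sum_pr ℳ x).symm.trans (Finset.sum_eq_zero fun g _ => hc g))
  obtain ⟨φ, hφ, -⟩ := Submodule.exists_dual_map_eq_bot_of_notMem (p := (⊥ : Submodule k M))
    (show pr ℳ a x ∉ (⊥ : Submodule k M) by rwa [Submodule.mem_bot]) inferInstance
  have hxK : x ∈ K s :=
    (Submodule.mem_finsetInf).mpr fun i hi => by
      have := congrFun hx (e.symm ⟨i, hi⟩)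
      rw [LinearMap.pi_apply, e.apply_symm_apply] at this
      exact this
  refine hmin (K (insert (a, φ) s)) ⟨_, rfl⟩ (lt_of_le_of_ne (Finset.inf_mono (Finset.subset_insert _ _)) fun h => hφ ?_)
  have hxK' : x ∈ K (insert (a, φ) s) := h ▸ hxK
  have h2 := (Submodule.mem_finsetInf).mp hxK' (a, φ) (Finset.mem_insert_self _ _)
  have h3 := hF (a, φ) x 1
  rw [LinearMap.mem_ker.mp h2, map_zero, LinearMap.zero_apply, one_smul] at h3
  exact h3.symm

end Groth.Agent.GrDual
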