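import Mathlib
import Groth.Agent.GrDual.Main
import Groth.Agent.GrDual.Embed

/-!
# The graded dual on maps: fullness, essential extensions, the injective envelope of the residue field
-/

set_option autoImplicit false
set_option linter.unusedSectionVars false
set_option linter.style.haveILetI false
set_option backward.isDefEq.respectTransparency false
set_option maxHeartbeats 800000

universe u

open Groth.Agent.GrLCLib

namespace Groth.Agent.GrDual

variable {k : Type u} [Field k] {R : Type u} [CommRing R] [Algebra k R] (𝒜 : ℤ → Submodule k R) [GradedAlgebra 𝒜]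

section Ideal

variable (mR : HomogeneousIdeal 𝒜) (hposR : ∀ n : ℤ, n < 0 → 𝒜 n = ⊥)
  (hmR : mR.toIdeal = Ideal.span (⋃ n ∈ Set.Ioi (0 : ℤ), (𝒜 n : Set R)))

include hposR hmR in
theorem one_notMem [Nontrivial R] : (1 : R) ∉ mR.toIdeal := by
  intro h1
  rw [hmR] at h1
  have key : ∀ z ∈ Ideal.span (⋃ n ∈ Set.Ioi (0 : ℤ), (𝒜 n : Set R)), ∀ r : R, pr 𝒜 0 (r * z) = 0 := by
    intro z hz
    induction hz using Submodule.span_induction with
    | mem y hy =>
      obtain ⟨j, hj, hy⟩ := Set.mem_iUnion₂.1 hy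
      intro r
      have hj' : (0 : ℤ) < j := hj
      have h0 : pr 𝒜 (0 - j) r ∈ (⊥ : Submodule k R) := hposR (0 - j) (by omega) ▸ pr_mem 𝒜 (0 - j) r
      rw [mul_comm, ← smul_eq_mul, pr_smul 𝒜 𝒜 hy, (Submodule.mem_bot k).1 h0, smul_zero]
    | zero => intro r; rw [mul_zero, map_zero]
    | add u v _ _ hu hv => intro r; rw [mul_add, map_add, hu, hv, add_zero]
    | smul c u _ hu => intro r; rw [smul_eq_mul, ← mul_assoc]; exact hu _
  have h2 := key 1 h1 1
  rw [mul_one, pr_of_mem 𝒜 (SetLike.one_mem_graded 𝒜)] at h2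
  exact one_ne_zero h2

end Ideal

section Hull

variable {D : Type u} [AddCommGroup D] [Module R D] [Module k D] [IsScalarTower k R D]
  {𝒟 : ℤ → AddSubgroup D} [DirectSum.Decomposition 𝒟] [SetLike.GradedSMul 𝒜 𝒟]
  {β : D →ₗ[k] R →ₗ[k] k}

include 𝒜 in
/-- The dual of the ring is injective in the graded category. -/
theorem isStarInj_dual (hD : GrSeg.IsGDual R 𝒜 𝒟 β) : GrLC.IsStarInj 𝒜 𝒟 := by
  intro A B f hf hinj g hg
  letI : Module k A.carrier := Module.compHom A.carrier (algebraMap k R)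
  letI : Module k B.carrier := Module.compHom B.carrier (algebraMap k R)
  haveI : IsScalarTower k R A.carrier := IsScalarTower.of_algebraMap_smul fun _ _ => rfl
  haveI : IsScalarTower k R B.carrier := IsScalarTower.of_algebraMap_smul fun _ _ => rfl
  let φA : A.carrier →ₗ[k] k := (LinearMap.applyₗ (1 : R)).comp (β.comp (g.restrictScalars k))
  obtain ⟨l, hl⟩ := LinearMap.exists_leftInverse_of_injective (f.restrictScalars k) (LinearMap.ker_eq_bot.2 hinj)
  obtain ⟨F, hF, hFdeg⟩ := exists_map 𝒜 (ℳ := B.gr) hD 0 (φA.comp l)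
  refine ⟨F, fun e x hx => by simpa using hFdeg e x hx, LinearMap.ext fun y => ?_⟩
  refine injective_pairing 𝒜 hD (LinearMap.ext fun r => ?_)
  have hg1 : ∀ w, φA (pr A.gr 0 w) = β (g w) 1 := fun w => by
    show β (g (pr A.gr 0 w)) 1 = β (g w) 1
    rw [pairing_right 𝒜 hD (SetLike.one_mem_graded 𝒜) (g w), ← pr_map A.gr 𝒟 hg, neg_zero]
  rw [LinearMap.comp_apply, hF, ← map_smul f, pr_map A.gr B.gr hf, LinearMap.comp_apply,
    show l (f (pr A.gr 0 (r • y))) = pr A.gr 0 (r • y) from LinearMap.congr_fun hl _, hg1, g.map_smul, hD.map_smul,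
    smul_eq_mul, mul_one]

include 𝒜 in
/-- The dual of the ring is the injective envelope of the residue field. -/
theorem isStarInjHull_dual (hposR : ∀ n : ℤ, n < 0 → 𝒜 n = ⊥) (h0R : 𝒜 0 = Submodule.span k {(1 : R)})
    (mR : HomogeneousIdeal 𝒜) (hmR : mR.toIdeal = Ideal.span (⋃ n ∈ Set.Ioi (0 : ℤ), (𝒜 n : Set R)))
    (hD : GrSeg.IsGDual R 𝒜 𝒟 β) (e : (R ⧸ mR.toIdeal) →ₗ[R] D) (he : Function.Injective e)
    (hegr : GrLC.IsGrHom (GrLC.quotGr 𝒜 mR) 𝒟 e) : GrLC.IsStarInjHull 𝒜 (GrLC.quotGr 𝒜 mR) 𝒟 e := by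
  refine ⟨⟨he, hegr, fun P hP hne hbot => ?_⟩, isStarInj_dual 𝒜 hD⟩
  obtain ⟨d, hdP, hd0⟩ := Submodule.exists_mem_ne_zero_of_ne_bot hne
  obtain ⟨δ, hδ⟩ : ∃ δ, pr 𝒟 δ d ≠ 0 := by
    by_contra hc
    push_neg at hc
    exact hd0 ((sum_pr 𝒟 d).symm.trans (Finset.sum_eq_zero fun g _ => hc g))
  have hdδ : pr 𝒟 δ d ∈ P := hP δ hdP
  obtain ⟨x, hx, hx0⟩ : ∃ x ∈ 𝒜 (-δ), β (pr 𝒟 δ d) x ≠ 0 := by
    by_contra hc
    push_neg at hc
    exact hδ (hD.eq_zero δ _ (pr_mem 𝒟 δ d) hc)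
  haveI : Nontrivial R := nontrivial_of_ne x 0 fun h => hx0 (by rw [h, map_zero])
  let u : D := e (Ideal.Quotient.mk _ 1)
  have hu : u ∈ 𝒟 0 := hegr 0 _ ⟨1, SetLike.one_mem_graded 𝒜, rfl⟩
  have hu0 : u ≠ 0 := fun h => one_notMem 𝒜 mR hposR hmR
    (Ideal.Quotient.eq_zero_iff_mem.1 (he (h.trans (map_zero e).symm)))
  let w : D := x • pr 𝒟 δ d
  have hw : w ∈ 𝒟 0 := by
    have := GrLCLib.smul_mem 𝒜 𝒟 hx (pr_mem 𝒟 δ d)
    rwa [neg_add_cancel] at this
  have hw1 : β w 1 = β (pr 𝒟 δ d) x := by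
    show β (x • pr 𝒟 δ d) 1 = _
    rw [hD.map_smul, smul_eq_mul, mul_one]
  have key : u = (β u 1 / β w 1) • w := by
    refine sub_eq_zero.1 (hD.eq_zero 0 _ (sub_mem hu (k_smul_mem 𝒜 _ hw)) fun z hz => ?_)
    rw [neg_zero, h0R] at hz
    obtain ⟨c, rfl⟩ := Submodule.mem_span_singleton.1 hz
    rw [map_smul, map_sub, map_smul, LinearMap.sub_apply, LinearMap.smul_apply, smul_eq_mul, smul_eq_mul,
      div_mul_cancel₀ _ (by rw [hw1]; exact hx0), sub_self, mul_zero]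
  have hmem : u ∈ P ⊓ LinearMap.range e := ⟨by
    rw [key, ← algebraMap_smul R]
    exact P.smul_mem _ (P.smul_mem _ hdδ), LinearMap.mem_range_self e _⟩
  rw [hbot, Submodule.mem_bot] at hmem
  exact hu0 hmem

end Hull

section Morph

variable {F : Type u} [AddCommGroup F] [Module R F] [Module k F] [IsScalarTower k R F]
  {ℱ : ℤ → AddSubgroup F} [DirectSum.Decomposition ℱ] [SetLike.GradedSMul 𝒜 ℱ]
variable {M : Type u} [AddCommGroup M] [Module R M] [Module k M] [IsScalarTower k R M]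
  {ℳ : ℤ → AddSubgroup M} [DirectSum.Decomposition ℳ] [SetLike.GradedSMul 𝒜 ℳ]
variable {DM : Type u} [AddCommGroup DM] [Module R DM] [Module k DM] [IsScalarTower k R DM]
  {𝒟M : ℤ → AddSubgroup DM} [DirectSum.Decomposition 𝒟M] [SetLike.GradedSMul 𝒜 𝒟M]
  {βM : DM →ₗ[k] M →ₗ[k] k}
variable {DF : Type u} [AddCommGroup DF] [Module R DF] [Module k DF] [IsScalarTower k R DF]
  {𝒟F : ℤ → AddSubgroup DF} [DirectSum.Decomposition 𝒟F] [SetLike.GradedSMul 𝒜 𝒟F]
  {βF : DF →ₗ[k] F →ₗ[k] k}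

include 𝒜 in
/-- Every map of graded duals of finite modules is a dual map. -/
theorem existsUnique_predual (h0R : 𝒜 0 = Submodule.span k {(1 : R)}) [IsNoetherianRing R] [Module.Finite R M]
    (hDM : GrSeg.IsGDual R ℳ 𝒟M βM) (hDF : GrSeg.IsGDual R ℱ 𝒟F βF) (g : DM →ₗ[R] DF)
    (hg : GrLC.IsGrHom 𝒟M 𝒟F g) :
    ∃! f : F →ₗ[R] M, GrLC.IsGrHom ℱ ℳ f ∧ GrSeg.IsGDualMap βM βF f g := by
  haveI : IsNoetherian R M := isNoetherian_of_isNoetherianRing_of_finite R M
  have hflip : GrSeg.IsGDual R 𝒟M ℳ βM.flip :=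
    isGDual_flip 𝒜 hDM (hfin := fun g => finite_piece 𝒜 h0R (Or.inl inferInstance) g)
  have hinj := injective_pairing 𝒜 hflip
  have hhom : ∀ e, ∀ x ∈ ℱ e, ∃ y ∈ ℳ e, ∀ d, βM d y = βF (g d) x := by
    intro e x hx
    obtain ⟨y, hy, hyd⟩ := hflip.exists_eq e ((βF.flip x).comp (g.restrictScalars k))
    refine ⟨y, hy, fun d => ?_⟩
    rw [pairing_right 𝒜 hDF hx (g d), pr_map 𝒟M 𝒟F hg, pairing_right 𝒜 hDM hy d]
    exact hyd _ (pr_mem 𝒟M (-e) d)
  have hex : ∀ x, ∃ y, ∀ d, βM d y = βF (g d) x := by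
    intro x
    induction x using DirectSum.Decomposition.inductionOn ℱ with
    | zero => exact ⟨0, fun d => by rw [map_zero, map_zero]⟩
    | @homogeneous e x => obtain ⟨y, -, hy⟩ := hhom e x x.2; exact ⟨y, hy⟩
    | add p q hp hq =>
      obtain ⟨y, hy⟩ := hp
      obtain ⟨z, hz⟩ := hq
      exact ⟨y + z, fun d => by rw [map_add, map_add, hy, hz]⟩
  choose f hf using hex
  let fL : F →ₗ[R] M :=
    { toFun := f
      map_add' := fun x y => hinj (LinearMap.ext fun d => by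
        simp only [LinearMap.flip_apply, map_add, hf, LinearMap.add_apply])
      map_smul' := fun r x => hinj (LinearMap.ext fun d => by
        rw [RingHom.id_apply, LinearMap.flip_apply, LinearMap.flip_apply, hf, ← hDF.map_smul, ← g.map_smul,
          ← hDM.map_smul, hf]) }
  refine ⟨fL, ⟨fun e x hx => ?_, fun d x => (hf x d).symm⟩, fun f' hf' => LinearMap.ext fun x => ?_⟩
  · obtain ⟨y, hy, hyd⟩ := hhom e x hx
    show f x ∈ ℳ e
    rw [hinj (a₁ := f x) (a₂ := y) (LinearMap.ext fun d => (hf x d).trans (hyd d).symm)]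
    exact hy
  · exact hinj (LinearMap.ext fun d => (hf'.2 d x).symm.trans (hf x d).symm)

include 𝒜 in
/-- A minimal surjection is one whose dual is an essential extension. -/
theorem minimal_iff_isStarEss (hposR : ∀ n : ℤ, n < 0 → 𝒜 n = ⊥) (h0R : 𝒜 0 = Submodule.span k {(1 : R)})
    (mR : HomogeneousIdeal 𝒜) (hmR : mR.toIdeal = Ideal.span (⋃ n ∈ Set.Ioi (0 : ℤ), (𝒜 n : Set R)))
    [Module.Finite R F] {f : F →ₗ[R] M} (hf : Function.Surjective f) (hfgr : GrLC.IsGrHom ℱ ℳ f)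
    (hDM : GrSeg.IsGDual R ℳ 𝒟M βM) (hDF : GrSeg.IsGDual R ℱ 𝒟F βF) {g : DM →ₗ[R] DF}
    (hg : GrSeg.IsGDualMap βM βF f g) :
    LinearMap.ker f ≤ mR.toIdeal • (⊤ : Submodule R F) ↔ GrLC.IsStarEss 𝒟M 𝒟F g := by
  classical
  have hinjM := injective_pairing 𝒜 hDM
  have hinjF := injective_pairing 𝒜 hDF
  have hginj : Function.Injective g := fun a b hab => hinjM (LinearMap.ext fun y => by
    obtain ⟨x, rfl⟩ := hf y
    rw [← hg, ← hg, hab])
  have hgdeg : GrLC.IsGrHom 𝒟M 𝒟F g := fun n d hd => by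
    obtain ⟨c, hc, hcx⟩ := hDF.exists_eq n (βF (g d))
    suffices h : g d = c from h ▸ hc
    refine hinjF (LinearMap.ext fun x => ?_)
    rw [pairing_left 𝒜 hDF hc x, hcx _ (pr_mem ℱ _ x), hg, hg, ← pr_map ℱ ℳ hfgr]
    exact pairing_left 𝒜 hDM hd _
  have hrange : ∀ d', d' ∈ LinearMap.range g ↔ d' ∈ orth hDF (LinearMap.ker f) := by
    refine fun d' => ⟨?_, fun h => ?_⟩
    · rintro ⟨d, rfl⟩ x hx
      rw [hg, LinearMap.mem_ker.1 hx, map_zero]
    · refine mem_of_pr_mem 𝒟F fun n => ?_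
      obtain ⟨s, hs⟩ := (f.restrictScalars k).exists_rightInverse_of_surjective (LinearMap.range_eq_top.2 hf)
      obtain ⟨d, hd, hdx⟩ := hDM.exists_eq n ((βF (pr 𝒟F n d')).comp s)
      refine ⟨d, hinjF (LinearMap.ext fun x => ?_)⟩
      rw [hg, pairing_left 𝒜 hDM hd, hdx _ (pr_mem ℳ _ _), LinearMap.comp_apply, pr_map ℱ ℳ hfgr,
        pairing_left 𝒜 hDF (pr_mem 𝒟F n d') x, ← sub_eq_zero, ← map_sub]
      refine homog_orth 𝒜 hDF (homog_ker ℱ ℳ hfgr) d' h n _ (LinearMap.mem_ker.2 ?_)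
      rw [map_sub, sub_eq_zero]
      exact LinearMap.congr_fun hs _
  have hkill : ∀ (d : DF), (∀ j, 0 < j → ∀ r ∈ 𝒜 j, r • d = 0) → ∀ r ∈ mR.toIdeal, r • d = 0 := fun d hd r hr => by
    rw [hmR] at hr
    induction hr using Submodule.span_induction with
    | mem y hy =>
      obtain ⟨j, hj, hy⟩ := Set.mem_iUnion₂.1 hy
      exact hd j hj y hy
    | zero => exact zero_smul R d
    | add u v _ _ hu hv => rw [add_smul, hu, hv, add_zero]
    | smul c u _ hu => rw [smul_eq_mul, mul_smul, hu, smul_zero]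
  constructor
  · intro hmin
    refine ⟨hginj, hgdeg, fun P hP hne hbot => ?_⟩
    obtain ⟨B, hB⟩ := exists_lower_bound 𝒜 (ℳ := ℱ) hposR
    let S : Set ℤ := {δ | ∃ d ∈ P, d ∈ 𝒟F δ ∧ d ≠ 0}
    have hSne : S.Nonempty := by
      obtain ⟨d, hdP, hd0⟩ := Submodule.exists_mem_ne_zero_of_ne_bot hne
      by_contra hc
      refine hd0 ((sum_pr 𝒟F d).symm.trans (Finset.sum_eq_zero fun δ _ => ?_))
      by_contra h0
      exact hc ⟨δ, _, hP δ hdP, pr_mem 𝒟F δ d, h0⟩
    have hSbdd : BddAbove S := ⟨-B, by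
      rintro δ ⟨d, -, hd, hd0⟩
      by_contra hlt
      exact hd0 (hDF.eq_zero δ d hd fun x hx => by rw [hB (-δ) (by omega) x hx, map_zero])⟩
    obtain ⟨d, hdP, hdδ, hd0⟩ := Int.csSup_mem hSne hSbdd
    have hd : ∀ j, 0 < j → ∀ r ∈ 𝒜 j, r • d = 0 := fun j hj r hr => by
      by_contra h0
      have := le_csSup hSbdd (show j + sSup S ∈ S from ⟨_, P.smul_mem r hdP, GrLCLib.smul_mem 𝒜 𝒟F hr hdδ, h0⟩)
      omega
    have hmem : d ∈ P ⊓ LinearMap.range g := ⟨hdP, (hrange d).2 fun x hx => by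
      refine Submodule.smul_induction_on (hmin hx) (fun r hr y _ => ?_) (fun u v hu hv => ?_)
      · rw [← hDF.map_smul, hkill d hd r hr, map_zero, LinearMap.zero_apply]
      · rw [map_add, hu, hv, add_zero]⟩
    rw [hbot, Submodule.mem_bot] at hmem
    exact hd0 hmem
  · intro hess
    let T := mR.toIdeal • (⊤ : Submodule R F)
    have hT : Homog ℱ T := fun x hx n => by
      refine Submodule.smul_induction_on (p := fun x => pr ℱ n x ∈ T) hx (fun r hr y _ => ?_)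
        (fun u v hu hv => by rw [map_add]; exact add_mem hu hv)
      show pr ℱ n (r • y) ∈ T
      rw [← sum_pr 𝒜 r, Finset.sum_smul, map_sum]
      refine sum_mem fun j _ => ?_
      rw [pr_smul 𝒜 ℱ (pr_mem 𝒜 j r)]
      exact Submodule.smul_mem_smul (mR.isHomogeneous j hr) Submodule.mem_top
    refine le_of_orth_le 𝒜 hDF hT (homog_ker ℱ ℳ hfgr) fun d hd => mem_of_pr_mem 𝒟F fun δ => ?_
    have hdδ := homog_orth 𝒜 hDF hT d hd δ
    by_contra hne
    let c := pr 𝒟F δ d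
    have hc : ∀ r ∈ mR.toIdeal, r • c = 0 := fun r hr => hinjF (LinearMap.ext fun x => by
      rw [hDF.map_smul, map_zero, LinearMap.zero_apply]
      exact hdδ _ (Submodule.smul_mem_smul hr Submodule.mem_top))
    have hc0 : c ≠ 0 := fun h => hne (by
      show pr 𝒟F δ d ∈ orth hDF (LinearMap.ker f)
      rw [show pr 𝒟F δ d = 0 from h]
      exact Submodule.zero_mem _)
    refine hess.essential (Submodule.span R {c}) (fun n y hy =>
      homog_span 𝒜 (ℳ := 𝒟F) (fun z hz => ⟨δ, by rw [Set.mem_singleton_iff.1 hz]; exact pr_mem 𝒟F δ d⟩)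
        inferInstance y hy n)
      (fun h => hc0 (Submodule.span_singleton_eq_bot.1 h)) (eq_bot_iff.2 fun y hy => ?_)
    obtain ⟨hyP, hyr⟩ := hy
    obtain ⟨r, rfl⟩ := Submodule.mem_span_singleton.1 hyP
    have hdec : ∀ r : R, r - pr 𝒜 0 r ∈ mR.toIdeal := fun r => by
      induction r using DirectSum.Decomposition.inductionOn 𝒜 with
      | zero => rw [map_zero, sub_zero]; exact zero_mem _
      | @homogeneous j q =>
        rcases lt_trichotomy j 0 with hj | rfl | hj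
        · have h0 : (q : R) ∈ (⊥ : Submodule k R) := hposR j hj ▸ q.2
          rw [(Submodule.mem_bot k).1 h0, map_zero, sub_zero]
          exact zero_mem _
        · rw [pr_of_mem 𝒜 q.2, sub_self]
          exact zero_mem _
        · rw [pr_of_mem_ne 𝒜 q.2 hj.ne', sub_zero, hmR]
          exact Submodule.subset_span (Set.mem_iUnion₂.2 ⟨j, hj, q.2⟩)
      | add u v hu hv => rw [map_add, add_sub_add_comm]; exact add_mem hu hv
    obtain ⟨a, ha⟩ := Submodule.mem_span_singleton.1 (h0R.le (pr_mem 𝒜 0 r))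
    have hra : r • c = a • c := by
      rw [← sub_add_cancel r (pr 𝒜 0 r), add_smul, hc _ (hdec r), zero_add, ← ha, smul_assoc, one_smul]
    rw [Submodule.mem_bot, hra]
    rcases eq_or_ne a 0 with ha0 | ha0
    · rw [ha0, zero_smul]
    · refine absurd ((hrange c).1 ?_) hne
      have h1 := (LinearMap.range g).smul_mem (algebraMap k R a⁻¹) hyr
      rwa [hra, algebraMap_smul, inv_smul_smul₀ ha0] at h1

end Morph

end Groth.Agent.GrDual
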